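import Groth.Prelude.Def_GLinSh
import Groth.Prelude.Def_CohB1
import Groth.Agent.Flat2H.FamExt
import Groth.Agent.GIT.K434.AmpleFam
import Groth.Agent.GIT.K689.ActBasic

/-!
# Invariant families on an invariant open from an ample sheaf on the target of an affine invariant morphism
-/

set_option autoImplicit false
universe u

open CategoryTheory MonoidalCategory CartesianMonoidalCategory MonObj GrpObj AlgebraicGeometry Topology GIT

namespace K960.InvFam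

open Groth.Agent.Fdesc.LocGen

section Pb

variable {T X Y : Scheme.{u}} (j : T ⟶ X) [IsOpenImmersion j] (ψ : T ⟶ Y)

/-- Pull back a function along `ψ` and view it downstairs along the open immersion `j`. -/
noncomputable def pb (O : X.Opens) (V : Y.Opens) (hO : O ≤ j.opensRange) (hV : j ⁻¹ᵁ O ≤ ψ ⁻¹ᵁ V) :
    Γ(Y, V) →+* Γ(X, O) :=
  haveI := j.isIso_app O hO
  (ψ.appLE V (j ⁻¹ᵁ O) hV ≫ inv (j.app O)).hom

theorem app_inj {O : X.Opens} (hO : O ≤ j.opensRange) : Function.Injective (j.app O).hom := by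
  have := j.isIso_app O hO
  exact (ConcreteCategory.bijective_of_isIso (j.app O)).1

variable {O : X.Opens} {V : Y.Opens} (hO : O ≤ j.opensRange) (hV : j ⁻¹ᵁ O ≤ ψ ⁻¹ᵁ V)

theorem app_pb (s : Γ(Y, V)) : j.app O (pb j ψ O V hO hV s) = ψ.appLE V (j ⁻¹ᵁ O) hV s := by
  have := j.isIso_app O hO
  have h : (ψ.appLE V (j ⁻¹ᵁ O) hV ≫ inv (j.app O)) ≫ j.app O = ψ.appLE V (j ⁻¹ᵁ O) hV := by simp
  exact congrArg (fun f => f.hom s) h

theorem ores_pb {O' : X.Opens} (h : O' ≤ O) (s : Γ(Y, V)) :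
    ores h (pb j ψ O V hO hV s) = pb j ψ O' V (h.trans hO) ((j.preimage_mono h).trans hV) s := by
  apply app_inj j (h.trans hO)
  change j.app O' _ = j.app O' _
  rw [app_pb]
  have h1 : j.app O' (ores h (pb j ψ O V hO hV s)) =
      ores (j.preimage_mono h) (j.app O (pb j ψ O V hO hV s)) :=
    congrArg (fun f => f.hom (pb j ψ O V hO hV s)) (j.naturality (homOfLE h).op)
  rw [h1, app_pb]
  exact congrArg (fun f => f.hom s) (ψ.appLE_map hV (homOfLE (j.preimage_mono h)).op)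

theorem pb_ores {V' : Y.Opens} (h : V ≤ V') (s : Γ(Y, V')) :
    pb j ψ O V hO hV (ores h s) = pb j ψ O V' hO (hV.trans (ψ.preimage_mono h)) s := by
  apply app_inj j hO
  change j.app O _ = j.app O _
  rw [app_pb, app_pb]
  exact congrArg (fun f => f.hom s) (ψ.map_appLE hV (homOfLE h).op)

theorem appLE_pb {Q : Scheme.{u}} (q : Q ⟶ X) (q' : Q ⟶ T) (hq : q' ≫ j = q) (T' : Q.Opens) (h : T' ≤ q ⁻¹ᵁ O)
    (h' : T' ≤ (q' ≫ ψ) ⁻¹ᵁ V) (s : Γ(Y, V)) :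
    q.appLE O T' h (pb j ψ O V hO hV s) = (q' ≫ ψ).appLE V T' h' s := by
  subst hq
  have h1 : (q' ≫ j).appLE O T' h (pb j ψ O V hO hV s) =
      q'.appLE (j ⁻¹ᵁ O) T' h (j.app O (pb j ψ O V hO hV s)) :=
    congrArg (fun f => f.hom (pb j ψ O V hO hV s)) (Scheme.Hom.comp_appLE q' j O T' h)
  rw [h1, app_pb]
  exact congrArg (fun f => f.hom s) (Scheme.Hom.appLE_comp_appLE q' ψ V (j ⁻¹ᵁ O) T' hV h)

theorem basicOpen_pb (s : Γ(Y, V)) :
    X.basicOpen (pb j ψ O V hO hV s) = O ⊓ j ''ᵁ (ψ ⁻¹ᵁ Y.basicOpen s) := by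
  have h1 : j ⁻¹ᵁ X.basicOpen (pb j ψ O V hO hV s) = j ⁻¹ᵁ O ⊓ ψ ⁻¹ᵁ Y.basicOpen s := by
    rw [Scheme.preimage_basicOpen]
    rw [app_pb]
    have h2 : T.basicOpen (ψ.appLE V (j ⁻¹ᵁ O) hV s) = j ⁻¹ᵁ O ⊓ T.basicOpen (ψ.app V s) := by
      exact T.basicOpen_res (ψ.app V s) (homOfLE hV).op
    rw [h2, Scheme.preimage_basicOpen]
  apply le_antisymm
  · refine le_inf (X.basicOpen_le _) ?_
    intro x hx
    obtain ⟨t, rfl⟩ := hO (X.basicOpen_le _ hx)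
    have h3 : t ∈ j ⁻¹ᵁ X.basicOpen (pb j ψ O V hO hV s) := hx
    rw [h1] at h3
    exact ⟨t, h3.2, rfl⟩
  · rintro _ ⟨hx, t, ht, rfl⟩
    have h3 : t ∈ j ⁻¹ᵁ O ⊓ ψ ⁻¹ᵁ Y.basicOpen s := ⟨hx, ht⟩
    rw [← h1] at h3
    exact h3

end Pb

theorem exists_invFam {S : Scheme.{u}} {G X : Over S} [GrpObj G] (a : AlgGrp.Action G X)
    (U : X.left.Opens) (hinv : a.act.left ⁻¹ᵁ U = (snd G X).left ⁻¹ᵁ U)
    (aU : AlgGrp.Action G (Over.mk (U.ι ≫ X.hom)))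
    (jU : Over.mk (U.ι ≫ X.hom) ⟶ X) (hjU : jU.left = U.ι) (haU : aU.act ≫ jU = (G ◁ jU) ≫ a.act)
    {Y : Over S} (φ : Over.mk (U.ι ≫ X.hom) ⟶ Y) (hφ : GIT.IsInvariant aU φ) [IsAffineHom φ.left]
    {M : Y.left.Modules} (hM : CohB1.IsAmple M) :
    ∃ (N m : ℕ) (O : Fin N → X.left.Opens) (g : ∀ i j, Γ(X.left, O i ⊓ O j))
      (b : Fin m → ∀ i, Γ(X.left, O i)),
      (∀ i, O i ≤ U) ∧ (∀ x ∈ U, ∃ i, x ∈ O i) ∧
      (∀ i, a.act.left ⁻¹ᵁ (O i) = (snd G X).left ⁻¹ᵁ (O i)) ∧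
      (∀ i j, IsUnit (g i j)) ∧ (∀ t, Groth.Agent.Flat2H.FamExt.IsFam O g (b t)) ∧
      (∀ t i, a.act.left.appLE (O i) (a.act.left ⁻¹ᵁ (O i) ⊓ (snd G X).left ⁻¹ᵁ (O i)) inf_le_left (b t i) =
        (snd G X).left.appLE (O i) (a.act.left ⁻¹ᵁ (O i) ⊓ (snd G X).left ⁻¹ᵁ (O i)) inf_le_right (b t i)) ∧
      (∀ t, IsAffineOpen (⨆ i, X.left.basicOpen (b t i))) ∧
      ∀ x ∈ U, ∃ t, x ∈ ⨆ i, X.left.basicOpen (b t i) := by
  obtain ⟨N, m, W, g, b, hW, hg, hfam, haff, hcov⟩ := K434.AmpleFam.exists_families hM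
  have hj : IsOpenImmersion jU.left := by rw [hjU]; infer_instance
  have hr : jU.left.opensRange = U := by
    ext x
    simp only [SetLike.mem_coe, Scheme.Hom.mem_opensRange]
    rw [hjU]
    constructor
    · rintro ⟨y, rfl⟩
      exact y.2
    · intro hx
      exact ⟨⟨x, hx⟩, rfl⟩
  have haU' : aU.act.left ≫ jU.left = (G ◁ jU).left ≫ a.act.left := by
    rw [← Over.comp_left, ← Over.comp_left, haU]
  have hsU' : (snd G (Over.mk (U.ι ≫ X.hom))).left ≫ jU.left = (G ◁ jU).left ≫ (snd G X).left := by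
    rw [← Over.comp_left, ← Over.comp_left, whiskerLeft_snd]
  have hφ' : aU.act.left ≫ φ.left = (snd G (Over.mk (U.ι ≫ X.hom))).left ≫ φ.left := hφ.left
  let O : Fin N → X.left.Opens := fun i => jU.left ''ᵁ (φ.left ⁻¹ᵁ W i)
  have hO : ∀ i, O i ≤ jU.left.opensRange := fun i => jU.left.image_le_opensRange _
  have hpre : ∀ i, jU.left ⁻¹ᵁ (O i) = φ.left ⁻¹ᵁ W i := fun i => jU.left.preimage_image_eq _
  have hpre2 : ∀ i k, jU.left ⁻¹ᵁ (O i ⊓ O k) ≤ φ.left ⁻¹ᵁ (W i ⊓ W k) := by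
    intro i k x hx
    have h1 : x ∈ jU.left ⁻¹ᵁ (O i) := hx.1
    have h2 : x ∈ jU.left ⁻¹ᵁ (O k) := hx.2
    rw [hpre] at h1 h2
    exact ⟨h1, h2⟩
  have hpt : ∀ z : (G ⊗ X).left, (snd G X).left z ∈ U →
      ∃ w : (G ⊗ Over.mk (U.ι ≫ X.hom)).left, (G ◁ jU).left w = z := by
    intro z hz
    rw [← hr] at hz
    obtain ⟨y, hy⟩ := hz
    obtain ⟨w, -, hw⟩ := K689.ActBasic.exists_point (K689.ActBasic.isPullback_snd_left (G := G) jU) y z hy
    exact ⟨w, hw⟩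
  have key : ∀ (V : Y.left.Opens) (w : (G ⊗ Over.mk (U.ι ≫ X.hom)).left),
      a.act.left ((G ◁ jU).left w) ∈ jU.left ''ᵁ (φ.left ⁻¹ᵁ V) ↔
        (snd G X).left ((G ◁ jU).left w) ∈ jU.left ''ᵁ (φ.left ⁻¹ᵁ V) := by
    intro V w
    rw [← Scheme.Hom.comp_apply, ← Scheme.Hom.comp_apply, ← haU', ← hsU', Scheme.Hom.comp_apply,
      Scheme.Hom.comp_apply]
    have h1 : ∀ t, jU.left t ∈ jU.left ''ᵁ (φ.left ⁻¹ᵁ V) ↔ φ.left t ∈ V := by
      intro t
      constructor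
      · rintro ⟨t', ht', e⟩
        rw [← jU.left.isOpenEmbedding.injective e]
        exact ht'
      · intro ht
        exact ⟨t, ht, rfl⟩
    rw [h1, h1, ← Scheme.Hom.comp_apply, ← Scheme.Hom.comp_apply, hφ']
  have hOinv : ∀ i, a.act.left ⁻¹ᵁ (O i) = (snd G X).left ⁻¹ᵁ (O i) := by
    intro i
    ext z
    change a.act.left z ∈ O i ↔ (snd G X).left z ∈ O i
    constructor
    · intro hz
      have h1 : z ∈ a.act.left ⁻¹ᵁ U := by
        change a.act.left z ∈ U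
        rw [← hr]
        exact hO i hz
      rw [hinv] at h1
      obtain ⟨w, rfl⟩ := hpt z h1
      exact (key (W i) w).1 hz
    · intro hz
      have h1 : (snd G X).left z ∈ U := by
        rw [← hr]
        exact hO i hz
      obtain ⟨w, rfl⟩ := hpt z h1
      exact (key (W i) w).2 hz
  have hJ : IsOpenImmersion (G ◁ jU).left := by
    have := K689.ActBasic.isPullback_snd_left (G := G) jU
    exact MorphismProperty.of_isPullback (P := @IsOpenImmersion) this hj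
  have hbo : ∀ t i, X.left.basicOpen (pb jU.left φ.left (O i) (W i) (hO i) (hpre i).le (b t i)) =
      jU.left ''ᵁ (φ.left ⁻¹ᵁ Y.left.basicOpen (b t i)) := by
    intro t i
    rw [basicOpen_pb]
    exact inf_eq_right.2 (jU.left.image_mono (φ.left.preimage_mono (Y.left.basicOpen_le _)))
  have hsup : ∀ t, (⨆ i, X.left.basicOpen (pb jU.left φ.left (O i) (W i) (hO i) (hpre i).le (b t i))) =
      jU.left ''ᵁ (φ.left ⁻¹ᵁ (⨆ i, Y.left.basicOpen (b t i))) := by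
    intro t
    simp only [hbo]
    rw [Scheme.Hom.preimage_iSup, Scheme.Hom.image_iSup]
  refine ⟨N, m, O, fun i k => pb jU.left φ.left (O i ⊓ O k) (W i ⊓ W k) (inf_le_left.trans (hO i)) (hpre2 i k) (g i k),
    fun t i => pb jU.left φ.left (O i) (W i) (hO i) (hpre i).le (b t i), ?_, ?_, hOinv, ?_, ?_, ?_, ?_, ?_⟩
  · intro i
    rw [← hr]
    exact hO i
  · intro x hx
    rw [← hr] at hx
    obtain ⟨t, rfl⟩ := hx
    obtain ⟨i, hi⟩ := hW (φ.left t)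
    exact ⟨i, t, hi, rfl⟩
  · intro i k
    exact (hg i k).map _
  · intro t i k
    rw [ores_pb, ores_pb]
    rw [← pb_ores jU.left φ.left (inf_le_left.trans (hO i)) (hpre2 i k) inf_le_left (b t i),
      ← pb_ores jU.left φ.left (inf_le_left.trans (hO i)) (hpre2 i k) inf_le_right (b t k), ← map_mul,
      hfam t i k]
  · intro t i
    apply app_inj (G ◁ jU).left
    · rintro z ⟨-, hz⟩
      have h1 : (snd G X).left z ∈ U := by
        rw [← hr]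
        exact hO i hz
      obtain ⟨w, rfl⟩ := hpt z h1
      exact ⟨w, rfl⟩
    · have hT1 : (G ◁ jU).left ⁻¹ᵁ (a.act.left ⁻¹ᵁ (O i) ⊓ (snd G X).left ⁻¹ᵁ (O i)) ≤
          (aU.act.left ≫ φ.left) ⁻¹ᵁ W i := by
        intro w hw
        have h1 : a.act.left ((G ◁ jU).left w) ∈ O i := hw.1
        rw [← Scheme.Hom.comp_apply, ← haU', Scheme.Hom.comp_apply] at h1
        have h2 : aU.act.left w ∈ jU.left ⁻¹ᵁ (O i) := h1
        rw [hpre] at h2
        exact h2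
      have hT2 : (G ◁ jU).left ⁻¹ᵁ (a.act.left ⁻¹ᵁ (O i) ⊓ (snd G X).left ⁻¹ᵁ (O i)) ≤
          ((snd G (Over.mk (U.ι ≫ X.hom))).left ≫ φ.left) ⁻¹ᵁ W i := by
        rw [← hφ']
        exact hT1
      have e1 := appLE_pb jU.left φ.left (hO i) (hpre i).le ((G ◁ jU).left ≫ a.act.left) aU.act.left haU'
        ((G ◁ jU).left ⁻¹ᵁ (a.act.left ⁻¹ᵁ (O i) ⊓ (snd G X).left ⁻¹ᵁ (O i)))
        ((G ◁ jU).left.preimage_mono inf_le_left) hT1 (b t i)
      have e2 := appLE_pb jU.left φ.left (hO i) (hpre i).le ((G ◁ jU).left ≫ (snd G X).left)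
        (snd G (Over.mk (U.ι ≫ X.hom))).left hsU'
        ((G ◁ jU).left ⁻¹ᵁ (a.act.left ⁻¹ᵁ (O i) ⊓ (snd G X).left ⁻¹ᵁ (O i)))
        ((G ◁ jU).left.preimage_mono inf_le_right) hT2 (b t i)
      have f1 := Scheme.Hom.appLE_comp_appLE (G ◁ jU).left a.act.left (O i)
        (a.act.left ⁻¹ᵁ (O i) ⊓ (snd G X).left ⁻¹ᵁ (O i))
        ((G ◁ jU).left ⁻¹ᵁ (a.act.left ⁻¹ᵁ (O i) ⊓ (snd G X).left ⁻¹ᵁ (O i))) inf_le_left le_rfl
      have f2 := Scheme.Hom.appLE_comp_appLE (G ◁ jU).left (snd G X).left (O i)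
        (a.act.left ⁻¹ᵁ (O i) ⊓ (snd G X).left ⁻¹ᵁ (O i))
        ((G ◁ jU).left ⁻¹ᵁ (a.act.left ⁻¹ᵁ (O i) ⊓ (snd G X).left ⁻¹ᵁ (O i))) inf_le_right le_rfl
      rw [Scheme.Hom.appLE_eq_app] at f1 f2
      refine (congrArg (fun f => f.hom (pb jU.left φ.left (O i) (W i) (hO i) (hpre i).le (b t i))) f1).trans ?_
      refine Eq.trans ?_
        (congrArg (fun f => f.hom (pb jU.left φ.left (O i) (W i) (hO i) (hpre i).le (b t i))) f2).symm
      refine e1.trans (Eq.trans ?_ e2.symm)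
      congr 2
      simp only [hφ']
  · intro t
    rw [hsup]
    exact ((haff t).preimage φ.left).image_of_isOpenImmersion jU.left
  · intro x hx
    rw [← hr] at hx
    obtain ⟨y, rfl⟩ := hx
    obtain ⟨t, ht⟩ := hcov (φ.left y)
    refine ⟨t, ?_⟩
    rw [hsup]
    exact ⟨y, ht, rfl⟩

end K960.InvFam
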